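import Mathlib

set_option autoImplicit false

open MvPolynomial

namespace Groth.Agent.PtsPlane

universe u
variable {k : Type u} [Field k]

/-- Homogeneous vanishing ideal of a finite set of vectors. -/
noncomputable def vIdeal (Z : Finset (Fin 3 → k)) : Ideal (MvPolynomial (Fin 3) k) :=
  ⨅ p ∈ Z, RingHom.ker (MvPolynomial.aeval (fun i => Polynomial.C (p i) * Polynomial.X)).toRingHom

theorem aeval_line_monomial (p : Fin 3 → k) (m : Fin 3 →₀ ℕ) (c : k) :
    MvPolynomial.aeval (fun i => Polynomial.C (p i) * Polynomial.X) (monomial m c) =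
      Polynomial.C (eval p (monomial m c)) * Polynomial.X ^ m.degree := by
  rw [aeval_monomial, eval_monomial, Finsupp.prod, Finsupp.prod, map_mul, map_prod]
  simp only [mul_pow, Finset.prod_mul_distrib, map_pow, Finset.prod_pow_eq_pow_sum,
    Polynomial.algebraMap_eq, Finsupp.degree_apply]
  ring

theorem coeff_aeval_line (p : Fin 3 → k) (f : MvPolynomial (Fin 3) k) (j : ℕ) :
    (MvPolynomial.aeval (fun i => Polynomial.C (p i) * Polynomial.X) f).coeff j =
      eval p (homogeneousComponent j f) := by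
  induction f using MvPolynomial.induction_on' with
  | monomial m c =>
    rw [aeval_line_monomial, Polynomial.coeff_C_mul_X_pow,
      homogeneousComponent_of_mem (isHomogeneous_monomial c rfl)]
    split <;> simp_all
  | add f g hf hg => simp [hf, hg]

theorem mem_vIdeal {Z : Finset (Fin 3 → k)} {f : MvPolynomial (Fin 3) k} :
    f ∈ vIdeal Z ↔ ∀ p ∈ Z, ∀ j, eval p (homogeneousComponent j f) = 0 := by
  simp only [vIdeal, Submodule.mem_iInf, RingHom.mem_ker, Polynomial.ext_iff,
    AlgHom.toRingHom_eq_coe, RingHom.coe_coe, coeff_aeval_line, Polynomial.coeff_zero]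

theorem component_mem_vIdeal {Z : Finset (Fin 3 → k)} {f : MvPolynomial (Fin 3) k}
    (hf : f ∈ vIdeal Z) (j : ℕ) : homogeneousComponent j f ∈ vIdeal Z := by
  rw [mem_vIdeal] at hf ⊢
  intro p hp i
  rw [homogeneousComponent_of_mem (homogeneousComponent_isHomogeneous j f)]
  split
  · exact hf p hp j
  · simp

theorem mem_vIdeal_of_homogeneous {Z : Finset (Fin 3 → k)} {f : MvPolynomial (Fin 3) k} {j : ℕ}
    (hf : f.IsHomogeneous j) : f ∈ vIdeal Z ↔ ∀ p ∈ Z, eval p f = 0 := by
  rw [mem_vIdeal]
  refine ⟨fun h p hp => ?_, fun h p hp i => ?_⟩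
  · simpa [homogeneousComponent_of_mem hf] using h p hp j
  · rw [homogeneousComponent_of_mem hf]
    split
    · exact h p hp
    · simp

theorem mem_of_forall_homogeneous {Z : Finset (Fin 3 → k)} {N : Ideal (MvPolynomial (Fin 3) k)}
    (h : ∀ j g, g.IsHomogeneous j → g ∈ vIdeal Z → g ∈ N) : vIdeal Z ≤ N := by
  intro f hf
  rw [← sum_homogeneousComponent f]
  exact N.sum_mem fun j _ => h j _ (homogeneousComponent_isHomogeneous j f) (component_mem_vIdeal hf j)

/-- `z`-free monomials of `h` have `x`-exponent `< a`. -/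
def TopLT (h : MvPolynomial (Fin 3) k) (a : ℕ) : Prop :=
  ∀ m : Fin 3 →₀ ℕ, coeff m h ≠ 0 → m 2 = 0 → m 0 < a

noncomputable def mon (a b : ℕ) : Fin 3 →₀ ℕ := Finsupp.single 0 a + Finsupp.single 1 b

@[simp] theorem mon_zero (a b : ℕ) : mon a b 0 = a := by simp [mon]
@[simp] theorem mon_one (a b : ℕ) : mon a b 1 = b := by simp [mon]
@[simp] theorem mon_two (a b : ℕ) : mon a b 2 = 0 := by simp [mon]

theorem degree_fin3 (m : Fin 3 →₀ ℕ) : m.degree = m 0 + m 1 + m 2 := by
  rw [Finsupp.degree_eq_sum, Fin.sum_univ_three]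

theorem eq_mon {m : Fin 3 →₀ ℕ} (h : m 2 = 0) : m = mon (m 0) (m 1) := by
  ext i
  fin_cases i <;> simp [h]

theorem degree_eq_of_coeff {g : MvPolynomial (Fin 3) k} {e : ℕ} (hg : g.IsHomogeneous e)
    {m : Fin 3 →₀ ℕ} (h : coeff m g ≠ 0) : m 0 + m 1 + m 2 = e := by
  by_contra hne
  exact h (hg.coeff_eq_zero (by rwa [degree_fin3]))

/-- One reduction step. -/
theorem reduce {N : Ideal (MvPolynomial (Fin 3) k)} {h g : MvPolynomial (Fin 3) k} {j e a b : ℕ}
    (hh : h.IsHomogeneous j) (hg : g.IsHomogeneous e) (hgN : g ∈ N) (htop : TopLT h (a + 1))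
    (hgtop : TopLT g (b + 1)) (hgb : coeff (mon b (e - b)) g ≠ 0) (hab : b ≤ a)
    (hej : e - b ≤ j - a) (haj : a ≤ j) :
    ∃ h', h'.IsHomogeneous j ∧ TopLT h' a ∧ h - h' ∈ N := by
  have hbe : b ≤ e := by
    have := degree_eq_of_coeff hg hgb
    simp only [mon_zero, mon_one, mon_two] at this
    omega
  let δ := mon (a - b) ((j - a) - (e - b))
  let γ := coeff (mon a (j - a)) h / coeff (mon b (e - b)) g
  have hhom : (monomial δ γ * g).IsHomogeneous j := by
    have := (isHomogeneous_monomial (d := δ) γ (degree_fin3 δ)).mul hg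
    have he : δ 0 + δ 1 + δ 2 + e = j := by simp [δ]; omega
    rwa [he] at this
  refine ⟨h - monomial δ γ * g, ?_, ?_, ?_⟩
  · exact (homogeneousSubmodule (Fin 3) k j).sub_mem hh hhom
  · intro m hm hm2
    have hdeg := degree_eq_of_coeff ((homogeneousSubmodule (Fin 3) k j).sub_mem hh hhom) hm
    rw [coeff_sub, coeff_monomial_mul'] at hm
    by_contra hle
    have ha : m 0 = a := by
      refine le_antisymm ?_ (not_lt.mp hle)
      by_contra hgt
      by_cases h1 : coeff m h = 0
      · rw [h1, zero_sub, neg_ne_zero] at hm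
        split at hm
        case isTrue hδ =>
          have := hgtop (m - δ) (right_ne_zero_of_mul hm) (by simp [Finsupp.tsub_apply, δ, hm2])
          simp [Finsupp.tsub_apply, δ] at this
          omega
        case isFalse => exact hm rfl
      · have := htop m h1 hm2
        omega
    have hm' : m = mon a (j - a) := by
      rw [eq_mon hm2, ha]
      congr 1
      omega
    subst hm'
    have hδle : δ ≤ mon a (j - a) := by
      intro i
      fin_cases i <;> simp [δ]
    have hsub : mon a (j - a) - δ = mon b (e - b) := by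
      ext i
      fin_cases i <;> simp [Finsupp.tsub_apply, δ] <;> omega
    rw [if_pos hδle, hsub, div_mul_cancel₀ _ hgb, sub_self] at hm
    exact hm rfl
  · rw [sub_sub_cancel]
    exact N.mul_mem_left _ hgN

/-- Normalised case: no point on `z = 0`, and `f` is monic in `x`. -/
theorem exists_gens_normal (Z : Finset (Fin 3 → k)) (hz : ∀ p ∈ Z, p 2 ≠ 0) {d : ℕ}
    {f : MvPolynomial (Fin 3) k} (hf : f ∈ vIdeal Z) (hhom : f.IsHomogeneous d)
    (hfd : coeff (mon d 0) f ≠ 0) :
    ∃ s : Finset (MvPolynomial (Fin 3) k), s.card ≤ d + 1 ∧ Ideal.span (s : Set _) = vIdeal Z := by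
  classical
  let Q : ℕ → ℕ → Prop := fun i j => ∃ g, g ∈ vIdeal Z ∧ g.IsHomogeneous j ∧ TopLT g (i + 1) ∧
    coeff (mon i (j - i)) g ≠ 0
  let G : ℕ → MvPolynomial (Fin 3) k := fun i =>
    if h : ∃ j, Q i j then (Nat.find_spec h).choose else 0
  have hG : ∀ i, G i ∈ vIdeal Z := by
    intro i
    simp only [G]
    split
    case isTrue h => exact (Nat.find_spec h).choose_spec.1
    case isFalse => exact zero_mem _
  let s : Finset (MvPolynomial (Fin 3) k) := insert f ((Finset.range d).image G)
  refine ⟨s, ?_, le_antisymm ?_ ?_⟩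
  · refine (Finset.card_insert_le _ _).trans (Nat.add_le_add_right ?_ 1)
    exact Finset.card_image_le.trans (Finset.card_range d).le
  · rw [Ideal.span_le]
    intro x hx
    simp only [s, Finset.coe_insert, Finset.coe_image, Set.mem_insert_iff, Set.mem_image] at hx
    rcases hx with rfl | ⟨i, -, rfl⟩
    · exact hf
    · exact hG i
  have hfs : f ∈ Ideal.span (s : Set (MvPolynomial (Fin 3) k)) :=
    Ideal.subset_span (Finset.mem_insert_self _ _)
  refine mem_of_forall_homogeneous fun j => ?_
  induction j using Nat.strong_induction_on with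
  | _ j ih =>
  suffices ∀ a h, h.IsHomogeneous j → h ∈ vIdeal Z → TopLT h a →
      h ∈ Ideal.span (s : Set (MvPolynomial (Fin 3) k)) from
    fun h hh hm => this (j + 1) h hh hm fun m hm _ => by
      have := degree_eq_of_coeff hh hm
      omega
  intro a
  induction a with
  | zero =>
    intro h hh hm htop
    obtain ⟨q, rfl⟩ : X (2 : Fin 3) ∣ h := by
      rw [X_dvd_iff_modMonomial_eq_zero]
      ext m
      rw [coeff_zero]
      by_cases hle : Finsupp.single (2 : Fin 3) 1 ≤ m
      · exact coeff_modMonomial_of_le _ hle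
      · rw [coeff_modMonomial_of_not_le _ hle]
        by_contra hne
        refine absurd (htop m hne ?_) (Nat.not_lt_zero _)
        by_contra h2
        exact hle (Finsupp.single_le_iff.mpr (Nat.one_le_iff_ne_zero.mpr h2))
    by_cases hq0 : q = 0
    · simp [hq0]
    obtain ⟨m₀, hm₀⟩ := exists_coeff_ne_zero hq0
    have hdeg : ∀ m, coeff m q ≠ 0 → m.degree + 1 = j := by
      intro m hmq
      have h1 : coeff (Finsupp.single 2 1 + m) (X (2 : Fin 3) * q) ≠ 0 := by
        rwa [coeff_X_mul]
      have := degree_eq_of_coeff hh h1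
      rw [degree_fin3]
      simp at this
      omega
    have hq : q.IsHomogeneous (j - 1) := by
      intro m hmq
      have hw : Finsupp.weight 1 m = m.degree := by
        rw [Finsupp.degree_eq_weight_one]
        rfl
      rw [hw]
      have := hdeg m hmq
      omega
    refine Ideal.mul_mem_left _ _ (ih (j - 1) (by have := hdeg m₀ hm₀; omega) q hq ?_)
    rw [mem_vIdeal_of_homogeneous hq]
    intro p hp
    have := (mem_vIdeal_of_homogeneous hh).mp hm p hp
    simpa [hz p hp] using this
  | succ a iha =>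
    intro h hh hm htop
    by_cases hc : a ≤ j ∧ coeff (mon a (j - a)) h ≠ 0
    swap
    · refine iha h hh hm fun m hmh hm2 => lt_of_le_of_ne (Nat.lt_succ_iff.mp (htop m hmh hm2)) ?_
      intro ha
      have hdeg := degree_eq_of_coeff hh hmh
      refine hc ⟨by omega, ?_⟩
      have : m = mon a (j - a) := by
        rw [eq_mon hm2, ha]
        congr 1
        omega
      rwa [← this]
    suffices hg : ∃ g b e, g ∈ Ideal.span (s : Set (MvPolynomial (Fin 3) k)) ∧ g ∈ vIdeal Z ∧
        g.IsHomogeneous e ∧ TopLT g (b + 1) ∧ coeff (mon b (e - b)) g ≠ 0 ∧ b ≤ a ∧ e - b ≤ j - a by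
      obtain ⟨g, b, e, hgs, hgv, hge, hgt, hgb, hba, hej⟩ := hg
      obtain ⟨h', h1, h2, h3⟩ := reduce (N := Ideal.span (s : Set (MvPolynomial (Fin 3) k)) ⊓ vIdeal Z)
        hh hge ⟨hgs, hgv⟩ htop hgt hgb hba hej hc.1
      have hm' : h' ∈ vIdeal Z := by simpa using sub_mem hm h3.2
      simpa using add_mem (iha h' h1 hm' h2) h3.1
    by_cases had : d ≤ a
    · refine ⟨f, d, d, hfs, hf, hhom, ?_, by simpa using hfd, had, by simp⟩
      intro m hm _
      have := degree_eq_of_coeff hhom hm
      omega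
    · have hex : ∃ j, Q a j := ⟨j, h, hm, hh, htop, hc.2⟩
      have hGa : G a = (Nat.find_spec hex).choose := dif_pos hex
      obtain ⟨h1, h2, h3, h4⟩ := (Nat.find_spec hex).choose_spec
      rw [← hGa] at h1 h2 h3 h4
      refine ⟨G a, a, Nat.find hex, ?_, h1, h2, h3, h4, le_rfl, ?_⟩
      · exact Ideal.subset_span (Finset.mem_insert_of_mem
          (Finset.mem_image_of_mem _ (Finset.mem_range.mpr (not_le.mp had))))
      · exact Nat.sub_le_sub_right (Nat.find_le ⟨h, hm, hh, htop, hc.2⟩) a

/-- Substitution along a linear map. -/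
noncomputable def subst (T : (Fin 3 → k) →ₗ[k] (Fin 3 → k)) :
    MvPolynomial (Fin 3) k →ₐ[k] MvPolynomial (Fin 3) k :=
  aeval fun i => ∑ j, C (T (Pi.single j 1) i) * X j

theorem eval_subst (T : (Fin 3 → k) →ₗ[k] (Fin 3 → k)) (x : Fin 3 → k)
    (g : MvPolynomial (Fin 3) k) : eval x (subst T g) = eval (T x) g := by
  induction g using MvPolynomial.induction_on with
  | C a => simp [subst]
  | add g h hg hh => simp [hg, hh]
  | mul_X g i hg =>
    have : T x i = ∑ j, T (Pi.single j 1) i * x j := by
      conv_lhs => rw [pi_eq_sum_univ' x, map_sum]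
      simp [Finset.sum_apply, Pi.single_apply, mul_comm]
    rw [map_mul, map_mul, map_mul, hg, eval_X]
    congr 1
    simp [subst, this]

theorem isHomogeneous_subst (T : (Fin 3 → k) →ₗ[k] (Fin 3 → k)) {g : MvPolynomial (Fin 3) k}
    {j : ℕ} (hg : g.IsHomogeneous j) : (subst T g).IsHomogeneous j := by
  have := IsHomogeneous.aeval hg (fun i => ∑ j, C (T (Pi.single j 1) i) * X j) (n := 1)
    fun i => IsHomogeneous.sum _ _ 1 fun j _ => (isHomogeneous_X k j).C_mul _
  simpa [subst] using this

theorem exists_gens_of_infinite [Infinite k] (Z : Finset (Fin 3 → k)) (hZ : ∀ p ∈ Z, p ≠ 0) {d : ℕ}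
    {f : MvPolynomial (Fin 3) k} (hf : f ∈ vIdeal Z) (hhom : f.IsHomogeneous d) (hf0 : f ≠ 0) :
    ∃ s : Finset (MvPolynomial (Fin 3) k), s.card ≤ d + 1 ∧ Ideal.span (s : Set _) = vIdeal Z := by
  classical
  obtain ⟨v, hv⟩ : ∃ v, eval v (f * X 0) ≠ 0 := by
    by_contra! hc
    exact mul_ne_zero hf0 (X_ne_zero 0) (funext fun v => by rw [hc v, map_zero])
  simp only [map_mul, eval_X, mul_ne_zero_iff] at hv
  obtain ⟨hfv, hv0⟩ := hv
  let a : (Fin 3 → k) →ₗ[k] k := LinearMap.proj 1 - (v 1 / v 0) • LinearMap.proj 0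
  let b : (Fin 3 → k) →ₗ[k] k := LinearMap.proj 2 - (v 2 / v 0) • LinearMap.proj 0
  have hab : ∀ p ∈ Z, a p ≠ 0 ∨ b p ≠ 0 := by
    intro p hp
    by_contra hc
    simp only [not_or, not_not] at hc
    have hpv : p = (p 0 / v 0) • v := by
      have h1 := hc.1
      have h2 := hc.2
      simp [a, sub_eq_zero] at h1
      simp [b, sub_eq_zero] at h2
      ext i
      fin_cases i <;> simp [h1, h2] <;> field_simp
    have h3 := (mem_vIdeal_of_homogeneous hhom).mp hf p hp
    rw [hpv] at h3
    have h4 : eval ((p 0 / v 0) • v) f = (p 0 / v 0) ^ d * eval v f := by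
      rw [eval_eq', eval_eq', Finset.mul_sum]
      refine Finset.sum_congr rfl fun m hm => ?_
      have hdeg := degree_eq_of_coeff hhom (mem_support_iff.mp hm)
      rw [← hdeg, Fin.prod_univ_three, Fin.prod_univ_three]
      simp only [Pi.smul_apply, smul_eq_mul, mul_pow, pow_add]
      ring
    rw [h4, mul_eq_zero] at h3
    have := eq_zero_of_pow_eq_zero (h3.resolve_right hfv)
    exact hZ p hp (by rw [hpv, this, zero_smul])
  obtain ⟨t, ht⟩ : ∃ t : k, ∀ p ∈ Z, a p + t * b p ≠ 0 := by
    obtain ⟨t, ht⟩ := Infinite.exists_notMem_finset (Z.image fun p => -(a p) / b p)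
    refine ⟨t, fun p hp h => ?_⟩
    by_cases hb : b p = 0
    · exact (hab p hp).resolve_right (not_not.mpr hb) (by simpa [hb] using h)
    · refine ht (Finset.mem_image.mpr ⟨p, hp, ?_⟩)
      rw [div_eq_iff hb]
      linear_combination -h
  let S : (Fin 3 → k) →ₗ[k] (Fin 3 → k) :=
    LinearMap.pi ![(v 0)⁻¹ • LinearMap.proj 0, b, a + t • b]
  have hS : Function.Injective S := by
    rw [injective_iff_map_eq_zero]
    intro x hx
    have h0 := congr_fun hx 0
    have h1 := congr_fun hx 1
    have h2 := congr_fun hx 2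
    simp [S, hv0] at h0
    simp [S, b, h0] at h1
    simp [S, a, b, h0, h1] at h2
    ext i
    fin_cases i <;> simp [h0, h1, h2]
  let e := LinearEquiv.ofBijective S ⟨hS, LinearMap.surjective_of_injective hS⟩
  have hσ : ∀ g, subst e.symm.toLinearMap (subst S g) = g := fun g => funext fun x => by
    rw [eval_subst, eval_subst]
    exact congrArg (eval · g) (e.apply_symm_apply x)
  have hσ' : ∀ g, subst S (subst e.symm.toLinearMap g) = g := fun g => funext fun x => by
    rw [eval_subst, eval_subst]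
    exact congrArg (eval · g) (e.symm_apply_apply x)
  let Z' := Z.image S
  have hmem : ∀ g j, g.IsHomogeneous j → (g ∈ vIdeal Z' ↔ subst S g ∈ vIdeal Z) := by
    intro g j hg
    rw [mem_vIdeal_of_homogeneous hg, mem_vIdeal_of_homogeneous (isHomogeneous_subst S hg)]
    simp [Z', eval_subst]
  have hz : ∀ p ∈ Z', p 2 ≠ 0 := by
    simp only [Z', Finset.mem_image, forall_exists_index, and_imp]
    rintro _ p hp rfl
    simpa [S] using ht p hp
  have hf'hom := isHomogeneous_subst e.symm.toLinearMap hhom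
  have hf' : subst e.symm.toLinearMap f ∈ vIdeal Z' := by
    rw [hmem _ d hf'hom, hσ']
    exact hf
  have hev : eval (Pi.single 0 1) (subst e.symm.toLinearMap f) ≠ 0 := by
    rw [eval_subst]
    have : e v = Pi.single 0 1 := by
      ext i
      fin_cases i <;> simp [e, S, a, b, hv0]
    rwa [← this, LinearEquiv.coe_coe, e.symm_apply_apply]
  have hcoef : coeff (mon d 0) (subst e.symm.toLinearMap f) ≠ 0 := by
    intro hc
    refine hev ?_
    rw [eval_eq']
    refine Finset.sum_eq_zero fun m hm => ?_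
    rw [mem_support_iff] at hm
    have hdeg := degree_eq_of_coeff hf'hom hm
    rw [Fin.prod_univ_three]
    by_cases h1 : m 1 = 0
    · by_cases h2 : m 2 = 0
      · exfalso
        apply hm
        have : m = mon d 0 := by
          rw [eq_mon h2, h1]
          congr 1
          omega
        rwa [this]
      · simp [h2]
    · simp [h1]
  obtain ⟨s, hs, hspan⟩ := exists_gens_normal Z' hz hf' hf'hom hcoef
  refine ⟨s.image (subst S), Finset.card_image_le.trans hs, ?_⟩
  have hmap : ∀ g ∈ vIdeal Z', subst S g ∈ vIdeal Z := by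
    intro g hg
    rw [← sum_homogeneousComponent g, map_sum]
    exact Submodule.sum_mem _ fun i _ =>
      (hmem _ i (homogeneousComponent_isHomogeneous i g)).mp (component_mem_vIdeal hg i)
  refine le_antisymm ?_ (mem_of_forall_homogeneous fun j g hg hgv => ?_)
  · rw [Ideal.span_le]
    intro x hx
    simp only [Finset.coe_image, Set.mem_image] at hx
    obtain ⟨g, hg, rfl⟩ := hx
    exact hmap g (hspan ▸ Ideal.subset_span hg)
  · have h1 : subst e.symm.toLinearMap g ∈ vIdeal Z' := by
      rw [hmem _ j (isHomogeneous_subst _ hg), hσ']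
      exact hgv
    rw [← hspan] at h1
    have h2 := Ideal.mem_map_of_mem (subst S).toRingHom h1
    rw [Ideal.map_span, AlgHom.toRingHom_eq_coe, RingHom.coe_coe, hσ'] at h2
    rwa [Finset.coe_image]

end Groth.Agent.PtsPlane
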