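import Groth.Agent.PtsPlane.Basic

set_option autoImplicit false

open MvPolynomial

namespace Groth.Agent.PtsPlane

universe u
variable {k : Type u} [Field k]

/-- `m · vIdeal`, as a `k`-subspace. -/
noncomputable def mI (Z : Finset (Fin 3 → k)) : Submodule k (MvPolynomial (Fin 3) k) where
  carrier := {f | ∃ u : Fin 3 → MvPolynomial (Fin 3) k, (∀ l, u l ∈ vIdeal Z) ∧ f = ∑ l, X l * u l}
  zero_mem' := ⟨0, fun _ => zero_mem _, by simp⟩
  add_mem' := by
    rintro _ _ ⟨u, hu, rfl⟩ ⟨v, hv, rfl⟩
    exact ⟨u + v, fun l => add_mem (hu l) (hv l), by simp [mul_add, Finset.sum_add_distrib]⟩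
  smul_mem' := by
    rintro c _ ⟨u, hu, rfl⟩
    exact ⟨c • u, fun l => by rw [Pi.smul_apply, smul_eq_C_mul]; exact Ideal.mul_mem_left _ _ (hu l),
      by simp [Finset.smul_sum]⟩

theorem le_span_of_generates_mod_mI (Z : Finset (Fin 3 → k))
    (s : Finset (MvPolynomial (Fin 3) k))
    (hs : ∀ r ∈ s, ∃ i, r.IsHomogeneous i)
    (hW : ∀ h ∈ vIdeal Z, ∃ c : MvPolynomial (Fin 3) k → k, h - ∑ r ∈ s, c r • r ∈ mI Z) :
    vIdeal Z ≤ Ideal.span (s : Set (MvPolynomial (Fin 3) k)) := by
  classical
  refine mem_of_forall_homogeneous fun j => ?_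
  induction j using Nat.strong_induction_on with
  | _ j ih =>
  intro h hh hm
  obtain ⟨c, u, hu, hcu⟩ := hW h hm
  have hcomp : h = homogeneousComponent j h := by rw [homogeneousComponent_of_mem hh, if_pos rfl]
  rw [hcomp]
  have h1 : h = ∑ r ∈ s, c r • r + ∑ l, X l * u l := by rw [← hcu]; abel
  rw [h1, map_add, map_sum, map_sum]
  refine add_mem (sum_mem fun r hr => ?_) (sum_mem fun l _ => ?_)
  · obtain ⟨i, hi⟩ := hs r hr
    rw [map_smul, homogeneousComponent_of_mem hi]
    split
    · rw [smul_eq_C_mul]
      exact Ideal.mul_mem_left _ _ (Ideal.subset_span hr)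
    · simp
  · rw [← sum_homogeneousComponent (u l), Finset.mul_sum, map_sum]
    refine sum_mem fun i _ => ?_
    rw [homogeneousComponent_of_mem
      ((isHomogeneous_X k l).mul (homogeneousComponent_isHomogeneous i (u l)))]
    split
    · refine Ideal.mul_mem_left _ _ (ih i (by omega) _ (homogeneousComponent_isHomogeneous i _) ?_)
      exact component_mem_vIdeal (hu l) i
    · exact zero_mem _

variable (K : Type u) [Field K] [Algebra k K]

/-- Apply a `k`-linear functional to the coefficients. -/
noncomputable def coeffMap (lam : K →ₗ[k] k) :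
    MvPolynomial (Fin 3) K →ₗ[k] MvPolynomial (Fin 3) k :=
  (AddMonoidAlgebra.coeffLinearEquiv k).symm.toLinearMap ∘ₗ
    Finsupp.mapRange.linearMap lam ∘ₗ (AddMonoidAlgebra.coeffLinearEquiv k).toLinearMap

variable {K}

theorem coeff_coeffMap (lam : K →ₗ[k] k) (F : MvPolynomial (Fin 3) K) (m : Fin 3 →₀ ℕ) :
    coeff m (coeffMap K lam F) = lam (coeff m F) := rfl

theorem coeffMap_map_smul (lam : K →ₗ[k] k) (c : K) (r : MvPolynomial (Fin 3) k) :
    coeffMap K lam (c • map (algebraMap k K) r) = lam c • r := by
  ext m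
  rw [coeff_coeffMap, coeff_smul, coeff_smul, coeff_map, smul_eq_mul, smul_eq_mul, mul_comm c,
    ← Algebra.smul_def, map_smul, smul_eq_mul, mul_comm]

theorem coeffMap_X_mul (lam : K →ₗ[k] k) (F : MvPolynomial (Fin 3) K) (l : Fin 3) :
    coeffMap K lam (X l * F) = X l * coeffMap K lam F := by
  ext m
  rw [coeff_coeffMap, coeff_X_mul', coeff_X_mul']
  split
  · rw [coeff_coeffMap]
  · simp

theorem homogeneousComponent_coeffMap (lam : K →ₗ[k] k) (F : MvPolynomial (Fin 3) K) (j : ℕ) :
    homogeneousComponent j (coeffMap K lam F) = coeffMap K lam (homogeneousComponent j F) := by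
  ext m
  rw [coeff_coeffMap, coeff_homogeneousComponent, coeff_homogeneousComponent, coeff_coeffMap]
  split <;> simp

theorem eval_coeffMap (lam : K →ₗ[k] k) (F : MvPolynomial (Fin 3) K) (p : Fin 3 → k) :
    eval p (coeffMap K lam F) = lam (eval (fun i => algebraMap k K (p i)) F) := by
  induction F using MvPolynomial.induction_on' with
  | monomial m c =>
    have : coeffMap K lam (monomial m c) = monomial m (lam c) := by
      ext n
      rw [coeff_coeffMap, coeff_monomial, coeff_monomial]
      split <;> simp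
    rw [this, eval_monomial, eval_monomial, Finsupp.prod, Finsupp.prod]
    simp only [← map_pow, ← map_prod]
    rw [mul_comm c, ← Algebra.smul_def, map_smul, smul_eq_mul, mul_comm]
  | add f g hf hg => simp [hf, hg]

theorem coeffMap_mem_vIdeal [DecidableEq (Fin 3 → K)] (Z : Finset (Fin 3 → k)) (lam : K →ₗ[k] k)
    {F : MvPolynomial (Fin 3) K}
    (hF : F ∈ vIdeal (Z.image fun p i => algebraMap k K (p i))) :
    coeffMap K lam F ∈ vIdeal Z := by
  rw [mem_vIdeal] at hF ⊢
  intro p hp j
  rw [homogeneousComponent_coeffMap, eval_coeffMap, hF _ (Finset.mem_image_of_mem _ hp) j, map_zero]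

theorem map_mem_vIdeal [DecidableEq (Fin 3 → K)] (Z : Finset (Fin 3 → k)) {f : MvPolynomial (Fin 3) k}
    (hf : f ∈ vIdeal Z) : map (algebraMap k K) f ∈ vIdeal (Z.image fun p i => algebraMap k K (p i)) := by
  rw [mem_vIdeal] at hf ⊢
  simp only [Finset.mem_image, forall_exists_index, and_imp]
  rintro _ p hp rfl j
  have : homogeneousComponent j (map (algebraMap k K) f) =
      map (algebraMap k K) (homogeneousComponent j f) := by
    ext m
    simp only [coeff_homogeneousComponent, coeff_map]
    split <;> simp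
  rw [this, eval_map]
  exact (eval₂_comp (algebraMap k K) p _).symm.trans (by rw [hf p hp j, map_zero])

theorem sub_C_constantCoeff (F : MvPolynomial (Fin 3) K) :
    ∃ G : Fin 3 → MvPolynomial (Fin 3) K, F - C (constantCoeff F) = ∑ l, X l * G l := by
  induction F using MvPolynomial.induction_on with
  | C a => exact ⟨0, by simp⟩
  | add f g hf hg =>
    obtain ⟨F1, h1⟩ := hf
    obtain ⟨F2, h2⟩ := hg
    exact ⟨F1 + F2, by simp [mul_add, Finset.sum_add_distrib, ← h1, ← h2]; ring⟩
  | mul_X f i _ => exact ⟨Pi.single i f, by simp [Pi.single_apply, mul_comm]⟩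

/-- Descent of the bound on the number of generators. -/
theorem exists_gens_descend [DecidableEq (Fin 3 → K)] (Z : Finset (Fin 3 → k))
    (S : Finset (MvPolynomial (Fin 3) K))
    (hS : Ideal.span (S : Set (MvPolynomial (Fin 3) K)) =
      vIdeal (Z.image fun p i => algebraMap k K (p i))) :
    ∃ s : Finset (MvPolynomial (Fin 3) k), s.card ≤ S.card ∧
      Ideal.span (s : Set (MvPolynomial (Fin 3) k)) = vIdeal Z := by
  classical
  let T : Set (MvPolynomial (Fin 3) k) := {r | r ∈ vIdeal Z ∧ ∃ i, r.IsHomogeneous i}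
  obtain ⟨b, hbT, hspan, hind⟩ := exists_linearIndependent k ((mI Z).mkQ '' T)
  choose lift hlift hliftq using fun x (hx : x ∈ b) => hbT hx
  have hbound : ∀ t : Finset (MvPolynomial (Fin 3) k), (∀ r ∈ t, r ∈ vIdeal Z) →
      LinearIndependent k (fun r : t => (mI Z).mkQ r.1) → t.card ≤ S.card := by
    intro t ht hli
    by_contra hlt
    have hF : ∀ r : t, ∃ F : S → MvPolynomial (Fin 3) K,
        ∑ g : S, F g * g.1 = map (algebraMap k K) r.1 := by
      intro r
      have hr := map_mem_vIdeal (K := K) Z (ht r.1 r.2)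
      rw [← hS, ← Subtype.range_coe (s := (S : Set (MvPolynomial (Fin 3) K)))] at hr
      obtain ⟨F, hF⟩ := Ideal.mem_span_range_iff_exists_fun.mp hr
      exact ⟨F, hF⟩
    choose F hF using hF
    choose G hG using fun (r : t) (g : S) => sub_C_constantCoeff (F r g)
    let φ : (t → K) →ₗ[K] (S → K) := Fintype.linearCombination K fun r g => constantCoeff (F r g)
    have hker : ¬ Function.Injective φ := fun hinj => by
      have := LinearMap.finrank_le_finrank_of_injective hinj
      simp at this
      omega
    rw [injective_iff_map_eq_zero] at hker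
    simp only [not_forall] at hker
    obtain ⟨c, hc, hc0⟩ := hker
    obtain ⟨r₀, hr₀⟩ := Function.ne_iff.mp hc0
    obtain ⟨lam₀, hlam⟩ := Module.Projective.exists_dual_eq_one k (x := c r₀) hr₀
    let w : MvPolynomial (Fin 3) k := ∑ r : t, lam₀ (c r) • r.1
    have hw : w ∈ mI Z := by
      refine ⟨fun l => coeffMap K lam₀ (∑ r : t, c r • ∑ g : S, G r g l * g.1), fun l => ?_, ?_⟩
      · refine coeffMap_mem_vIdeal Z lam₀ (sum_mem fun r _ => ?_)
        rw [smul_eq_C_mul]
        refine Ideal.mul_mem_left _ _ (sum_mem fun g _ => Ideal.mul_mem_left _ _ ?_)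
        rw [← hS]
        exact Ideal.subset_span g.2
      · simp only [w, ← coeffMap_X_mul, ← map_sum]
        have h1 : ∑ r : t, c r • map (algebraMap k K) r.1 =
            ∑ l, X l * ∑ r : t, c r • ∑ g : S, G r g l * g.1 := by
          have hφ : ∀ g : S, ∑ r : t, c r * constantCoeff (F r g) = 0 := fun g => by
            have := congr_fun hc g
            simpa [φ, Fintype.linearCombination_apply] using this
          calc ∑ r : t, c r • map (algebraMap k K) r.1
              = ∑ r : t, ∑ g : S, c r • ((C (constantCoeff (F r g)) + ∑ l, X l * G r g l) * g.1) := by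
                refine Finset.sum_congr rfl fun r _ => ?_
                rw [← hF r, Finset.smul_sum]
                refine Finset.sum_congr rfl fun g _ => ?_
                rw [← hG r g, add_sub_cancel]
            _ = ∑ g : S, C (∑ r : t, c r * constantCoeff (F r g)) * g.1 +
                ∑ l, X l * ∑ r : t, c r • ∑ g : S, G r g l * g.1 := by
                simp only [add_mul, smul_add, Finset.sum_add_distrib, map_sum, Finset.sum_mul,
                  Finset.mul_sum, Finset.smul_sum, smul_eq_C_mul, map_mul]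
                congr 1
                · rw [Finset.sum_comm]
                  exact Finset.sum_congr rfl fun g _ => Finset.sum_congr rfl fun r _ => by ring
                · calc _ = ∑ r : t, ∑ l : Fin 3, ∑ g : S, C (c r) * (X l * G r g l * g.1) :=
                        Finset.sum_congr rfl fun r _ => Finset.sum_comm
                    _ = _ := by
                      rw [Finset.sum_comm]
                      exact Finset.sum_congr rfl fun l _ => Finset.sum_congr rfl fun r _ =>
                        Finset.sum_congr rfl fun g _ => by ring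
            _ = ∑ l, X l * ∑ r : t, c r • ∑ g : S, G r g l * g.1 := by
                simp only [hφ, map_zero, zero_mul, Finset.sum_const_zero, zero_add]
        rw [← h1, map_sum]
        exact Finset.sum_congr rfl fun r _ => (coeffMap_map_smul lam₀ (c r) r.1).symm
    have h0 : (mI Z).mkQ w = 0 := (Submodule.Quotient.mk_eq_zero _).mpr hw
    simp only [w, map_sum, map_smul] at h0
    have := Fintype.linearIndependent_iff.mp hli _ h0 r₀
    rw [hlam] at this
    exact one_ne_zero this
  have hinj : ∀ x y (hx : x ∈ b) (hy : y ∈ b), lift x hx = lift y hy → x = y := by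
    intro x y hx hy h
    rw [← hliftq x hx, ← hliftq y hy, h]
  have hsub : ∀ B : Finset (MvPolynomial (Fin 3) k ⧸ mI Z), (∀ x ∈ B, x ∈ b) → B.card ≤ S.card := by
    intro B hB
    let t := B.attach.image fun x => lift x.1 (hB x.1 x.2)
    have hcard : t.card = B.card := by
      rw [Finset.card_image_of_injective _ (fun x y h => Subtype.ext (hinj _ _ _ _ h)),
        Finset.card_attach]
    rw [← hcard]
    have htb : ∀ r : t, (mI Z).mkQ r.1 ∈ b := by
      rintro ⟨r, hr⟩
      obtain ⟨x, -, rfl⟩ := Finset.mem_image.mp hr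
      rw [hliftq]
      exact hB x.1 x.2
    refine hbound t ?_ ?_
    · intro r hr
      obtain ⟨x, -, rfl⟩ := Finset.mem_image.mp hr
      exact (hlift _ _).1
    · refine hind.comp (fun r : t => ⟨_, htb r⟩) ?_
      rintro ⟨r, hr⟩ ⟨r', hr'⟩ h
      obtain ⟨x, -, rfl⟩ := Finset.mem_image.mp hr
      obtain ⟨y, -, rfl⟩ := Finset.mem_image.mp hr'
      have h' := congrArg Subtype.val h
      simp only [hliftq] at h'
      simp [Subtype.ext h']
  have hbfin : b.Finite := by
    by_contra hinf
    obtain ⟨B, hB, hBc⟩ := (Set.not_finite.mp hinf).exists_subset_card_eq (S.card + 1)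
    have := hsub B fun x hx => hB hx
    omega
  let s := hbfin.toFinset.attach.image fun x => lift x.1 (hbfin.mem_toFinset.mp x.2)
  refine ⟨s, Finset.card_image_le.trans ?_, le_antisymm ?_ ?_⟩
  · rw [Finset.card_attach]
    exact hsub _ fun x hx => hbfin.mem_toFinset.mp hx
  · rw [Ideal.span_le]
    intro r hr
    obtain ⟨x, -, rfl⟩ := Finset.mem_image.mp hr
    exact (hlift _ _).1
  refine le_span_of_generates_mod_mI Z s ?_ fun h hh => ?_
  · intro r hr
    obtain ⟨x, -, rfl⟩ := Finset.mem_image.mp hr
    exact (hlift _ _).2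
  have h1 : (mI Z).mkQ h ∈ Submodule.span k ((mI Z).mkQ '' (s : Set (MvPolynomial (Fin 3) k))) := by
    have hb : b ⊆ (mI Z).mkQ '' (s : Set (MvPolynomial (Fin 3) k)) := fun x hx =>
      ⟨lift x hx, Finset.mem_coe.mpr (Finset.mem_image.mpr
        ⟨⟨x, hbfin.mem_toFinset.mpr hx⟩, Finset.mem_attach _ _, rfl⟩), hliftq x hx⟩
    refine Submodule.span_mono hb (hspan.ge ?_)
    rw [← sum_homogeneousComponent h, map_sum]
    exact sum_mem fun i _ => Submodule.subset_span ⟨_, ⟨component_mem_vIdeal hh i,
      i, homogeneousComponent_isHomogeneous i h⟩, rfl⟩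
  rw [← Submodule.map_span, Submodule.mem_map] at h1
  obtain ⟨y, hy, hyh⟩ := h1
  obtain ⟨c, -, hc⟩ := Submodule.mem_span_finset.mp hy
  refine ⟨c, ?_⟩
  rw [hc, ← neg_sub, Submodule.neg_mem_iff]
  exact (Submodule.Quotient.eq _).mp hyh

attribute [local irreducible] vIdeal

theorem spanFinrank_vIdeal_le (K : Type u) [Field K] [Algebra k K] [Infinite K]
    (Z : Finset (Fin 3 → k)) (hZ : ∀ p ∈ Z, p ≠ 0) {d : ℕ} {f : MvPolynomial (Fin 3) k}
    (hfI : f ∈ vIdeal Z) (hfd : f.IsHomogeneous d) (hf0 : f ≠ 0) :
    Submodule.spanFinrank (vIdeal Z) ≤ d + 1 := by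
  classical
  have hinj : Function.Injective (algebraMap k K) := (algebraMap k K).injective
  obtain ⟨S, hS, hspan⟩ := exists_gens_of_infinite
    (Z.image fun p i => algebraMap k K (p i))
    (by
      simp only [Finset.mem_image, forall_exists_index, and_imp]
      rintro _ p hp rfl h0
      exact hZ p hp (_root_.funext fun i => hinj (by simpa using congr_fun h0 i)))
    (map_mem_vIdeal (K := K) Z hfI) (hfd.map _)
    (fun h0 => hf0 (MvPolynomial.map_injective _ hinj (h0.trans (map_zero _).symm)))
  obtain ⟨s, hs, hsp⟩ := exists_gens_descend (K := K) Z S hspan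
  rw [← hsp]
  exact (Submodule.spanFinrank_span_le_ncard_of_finite s.finite_toSet).trans
    (by rw [Set.ncard_coe_finset]; omega)

end Groth.Agent.PtsPlane
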